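import Groth.Agent.ChowLib.Main
import Groth.Agent.AmpleEmb.Compose

/-!
# Graphs of projective embeddings of affine opens
-/

set_option autoImplicit false
set_option linter.style.haveILetI false
set_option maxHeartbeats 1000000
set_option backward.isDefEq.respectTransparency false

universe u

open CategoryTheory CategoryTheory.Limits AlgebraicGeometry

noncomputable section

namespace Groth.Agent.ProperTest

/-- An affine open of a proper scheme is the isomorphic part of a proper modification closed in projective space over it. -/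
theorem exists_graph {X S : Scheme.{u}} (π : X ⟶ S) [IsProper π] {U : X.Opens} (hU : IsAffineOpen U)
    [QuasiCompact (U.ι ≫ π)] :
    ∃ (n : ℕ) (Z : Scheme.{u}) (b : Z ⟶ X) (c : Z ⟶ CohB1.ProjSpaceOver n S)
      (W : (CohB1.ProjSpaceOver n S).Opens) (g : (U : Scheme.{u}) ⟶ (c ⁻¹ᵁ W : Z.Opens)),
      b ≫ π = c ≫ CohB1.ProjSpaceOver.toBase n S ∧ IsProper b ∧ IsProper c ∧ IsClosedImmersion (c ∣_ W) ∧ IsIso g ∧
        g ≫ (c ⁻¹ᵁ W).ι ≫ b = U.ι := by
  obtain ⟨n, h, hh, hhf⟩ := ChowLib.exists_immersion_quasiAffine π (ChowLib.isQuasiAffine_of_isAffineOpen hU)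
  haveI := hh
  let P := CohB1.ProjSpaceOver n S
  let pr := CohB1.ProjSpaceOver.toBase n S
  let G : (U : Scheme.{u}) ⟶ pullback π pr := pullback.lift U.ι h hhf.symm
  have hG₂ : G ≫ pullback.snd π pr = h := pullback.lift_snd _ _ _
  haveI : QuasiCompact h := by
    haveI : QuasiCompact (h ≫ pr) := by rw [hhf]; infer_instance
    exact QuasiCompact.of_comp h pr
  haveI : IsImmersion G := by
    haveI : IsImmersion (G ≫ pullback.snd π pr) := by rw [hG₂]; infer_instance
    exact IsImmersion.of_comp G (pullback.snd π pr)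
  haveI : QuasiCompact G := by
    haveI : QuasiCompact (G ≫ pullback.snd π pr) := by rw [hG₂]; infer_instance
    exact QuasiCompact.of_comp G (pullback.snd π pr)
  let b := G.imageι ≫ pullback.fst π pr
  let c := G.imageι ≫ pullback.snd π pr
  let W := h.coborderRange
  let j := G.toImage
  have hjc : j ≫ c = h := by rw [Scheme.Hom.toImage_imageι_assoc, hG₂]
  have hjb : j ≫ b = U.ι := by rw [Scheme.Hom.toImage_imageι_assoc]; exact pullback.lift_fst _ _ _
  have hsub : Set.range j ⊆ Set.range (c ⁻¹ᵁ W).ι := by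
    rw [Scheme.Opens.range_ι]
    rintro _ ⟨u, rfl⟩
    show (j ≫ c) u ∈ W
    rw [hjc]
    exact subset_coborder ⟨u, rfl⟩
  let g : (U : Scheme.{u}) ⟶ (c ⁻¹ᵁ W : G.image.Opens) := IsOpenImmersion.lift (c ⁻¹ᵁ W).ι j hsub
  have hg : g ≫ (c ⁻¹ᵁ W).ι = j := IsOpenImmersion.lift_fac _ _ _
  have hgc : g ≫ (c ∣_ W) = h.liftCoborder := by
    rw [← cancel_mono W.ι, Category.assoc, morphismRestrict_ι, ← Category.assoc, hg, hjc, Scheme.Hom.liftCoborder_ι]
  haveI : IsOpenImmersion g := by
    haveI : IsOpenImmersion (g ≫ (c ⁻¹ᵁ W).ι) := by rw [hg]; infer_instance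
    exact IsOpenImmersion.of_comp g (c ⁻¹ᵁ W).ι
  haveI : IsProper c := inferInstanceAs (IsProper (G.imageι ≫ pullback.snd π pr))
  haveI : IsClosedImmersion g := by
    haveI : IsClosedImmersion (g ≫ (c ∣_ W)) := by rw [hgc]; infer_instance
    exact IsClosedImmersion.of_comp g (c ∣_ W)
  haveI : Surjective g := ⟨fun z => by
    by_contra hz
    have hopen : IsOpen ((c ⁻¹ᵁ W).ι '' (Set.range g)ᶜ) :=
      (c ⁻¹ᵁ W).ι.isOpenEmbedding.isOpenMap _ g.isClosedEmbedding.isClosed_range.isOpen_compl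
    obtain ⟨-, ⟨w, hw, hwe⟩, ⟨u, rfl⟩⟩ := (G.toImage.denseRange).inter_open_nonempty _ hopen ⟨_, z, hz, rfl⟩
    refine hw ⟨u, (c ⁻¹ᵁ W).ι.isOpenEmbedding.injective ?_⟩
    rw [hwe]
    exact congrArg (fun t => t u) hg⟩
  haveI : IsIso g := by
    haveI : Epi g.base := (TopCat.epi_iff_surjective _).2 g.surjective
    exact IsOpenImmersion.isIso g
  have hcW : IsClosedImmersion (c ∣_ W) := by
    rw [show c ∣_ W = inv g ≫ h.liftCoborder by rw [← hgc, IsIso.inv_hom_id_assoc]]
    infer_instance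
  refine ⟨n, _, b, c, W, g, ?_, inferInstanceAs (IsProper (G.imageι ≫ pullback.fst π pr)), inferInstance, hcW,
    inferInstance, ?_⟩
  · simp only [b, c, Category.assoc, pullback.condition, pr]
  · rw [← Category.assoc, hg, hjb]

end Groth.Agent.ProperTest
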