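import Groth.Agent.ProperTest.Hom
import Groth.Agent.ProperTest.Graph
import Groth.Agent.ProjPerfLib.TwistLinear
import Groth.Agent.DCohMore.AffinePushHD
import Groth.Agent.DCohMore.RpushBdd
import Groth.Agent.RelPCLib.ClosedPC
import Groth.Agent.DCohLib.PerfCoh
import Groth.Agent.BCLib.SteinFlat

/-!
# Bounded coherence on regular proper schemes from morphisms out of perfect objects
-/

set_option autoImplicit false
set_option linter.style.haveILetI false
set_option maxHeartbeats 1000000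
set_option backward.isDefEq.respectTransparency false

universe u

open CategoryTheory CategoryTheory.Limits AlgebraicGeometry
open CategoryTheory.Pretriangulated

attribute [local instance] HasDerivedCategory.standard

noncomputable section

namespace Groth.Agent.ProperTest

open Groth.Agent.DCohLib Groth.Agent.DCohMore

/-- Direct images of perfect objects to regular Noetherian schemes along proper morphisms are perfect. -/
theorem isPerfect_rpush_of_regular {X Y : Scheme.{u}} [IsNoetherian X] (b : Y ⟶ X) [IsProper b] [DCoh.HasRpush b]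
    (hreg : ∀ x : X, IsRegularLocalRing (X.presheaf.stalk x)) (P : DCoh.D Y) (hP : DCoh.IsPerfect P) :
    DCoh.IsPerfect ((DCoh.Rpush b).obj P) := by
  haveI : IsLocallyNoetherian Y := LocallyOfFiniteType.isLocallyNoetherian b
  haveI : CompactSpace Y := QuasiCompact.compactSpace_of_compactSpace b
  haveI : IsNoetherian Y := {}
  obtain ⟨hc, l, u', hl, hu⟩ := isCohD_bounded_of_isPerfect P hP
  haveI := hl
  haveI := hu
  have huniv : ClSub.IsProperOver b (Set.univ : Set Y) :=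
    (ClSubLib.isProperOver_iff b (𝟙 Y) (Set.range_id)).2 (by rw [Category.id_comp]; infer_instance)
  have hs : ∀ i, ClSub.IsProperOver b (CohB1.support (DCoh.HD P i)) := fun i => ClSubLib.isProperOver_subset b huniv
    (PullbackMod.isClosed_support_of_isFT (hc i).2) (Set.subset_univ _)
  haveI := isGE_rpush b P l
  obtain ⟨u'', hu''⟩ := exists_isLE_rpush b P l u' hc hs
  haveI := hu''
  exact isPerfect_of_regular hreg _ l u'' (isCohD_rpush b P l hc hs)

theorem nonempty_lpull_congr {A B : Scheme.{u}} {f f' : A ⟶ B} (h : f = f') [DCoh.HasLpull f] [DCoh.HasLpull f']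
    (K : DCoh.D B) : Nonempty ((DCoh.Lpull f).obj K ≅ (DCoh.Lpull f').obj K) := by
  subst h
  exact ⟨Iso.refl _⟩

variable {k : Type u} [Field k] {X : Scheme.{u}} [X.Over (Spec (CommRingCat.of k))]
  [IsProper (X ↘ Spec (CommRingCat.of k))]

/-- Local bounded coherence. -/
theorem exists_cohb_nhd (hreg : ∀ x : X, IsRegularLocalRing (X.presheaf.stalk x)) (K : DCoh.D X)
    (hK : DCoh.IsQCohD K)
    (h : ∀ E : DCoh.D X, DCoh.IsPerfect E →
      (∀ i : ℤ, Module.Finite k (E ⟶ K⟦i⟧)) ∧ Set.Finite {i : ℤ | Nontrivial (E ⟶ K⟦i⟧)}) (x : X) :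
    ∃ U : X.Opens, x ∈ U ∧ SGA6.cohbP (U : Scheme.{u}) ((DCoh.restrictD U.ι).obj K) := by
  let S := Spec (CommRingCat.of k)
  let π := X ↘ S
  haveI : IsLocallyNoetherian X := LocallyOfFiniteType.isLocallyNoetherian π
  haveI : CompactSpace X := QuasiCompact.compactSpace_of_compactSpace π
  haveI : IsNoetherian X := {}
  obtain ⟨_, ⟨U₀, hU, rfl⟩, hx, -⟩ := X.isBasis_affineOpens.exists_subset_of_mem_open (Set.mem_univ x) isOpen_univ
  let U : X.Opens := U₀
  haveI : IsAffine (U : Scheme.{u}) := hU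
  haveI : QuasiCompact (U.ι ≫ π) := inferInstance
  obtain ⟨n, Z, b, c, W, g, hw, hb, hc, hcW, hg, hgb⟩ := exists_graph π hU
  haveI := hb
  haveI := hc
  haveI := hcW
  haveI := hg
  letI : Z.Over S := ⟨b ≫ π⟩
  haveI : b.IsOver S := ⟨rfl⟩
  haveI : c.IsOver S := ⟨hw.symm⟩
  haveI := BC.hasRpush b
  haveI := BC.hasRpush c
  haveI := hasLpull b
  haveI := hasLpull c
  haveI := BC.hasRpush (KRR.pr n S)
  haveI := TwistOver.isProper_pr n S
  haveI : IsLocallyNoetherian (KRR.PY n S) := LocallyOfFiniteType.isLocallyNoetherian (KRR.pr n S)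
  haveI : IsLocallyNoetherian (W : Scheme.{u}) := LocallyOfFiniteType.isLocallyNoetherian W.ι
  let V := (DCoh.Lpull b).obj K
  have hV : DCoh.IsQCohD V := TildeD.isQCohD_lpull b K hK
  let M := (DCoh.Rpush c).obj V
  have hM : DCoh.IsQCohD M := DCohMore.isQCohD_rpush c V hV
  haveI : SiteCmp.HasRpushD (ModSite.RMor.ofScheme c) := ‹DCoh.HasRpush c›
  obtain ⟨h₁, h₂⟩ := SiteCmpLib.exists_triangulated_rpushD (ModSite.RMor.ofScheme c)
  letI : (DCoh.Rpush c).CommShift ℤ := h₁
  haveI : (DCoh.Rpush c).IsTriangulated := h₂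
  haveI := FinHom.rpush_linear (A := k) c
  have hMp : DCoh.IsPerfect M := by
    refine ProjPerfLib.isPerfect_of_twists n k M hM fun j _ => ?_
    let P := KRR.PY n S
    let T := (TwistOver.F n S (j : ℤ)).obj (DCoh.inD P (Coh.structureModule P))
    let L := (DCoh.Lpull c).obj T
    have hL : DCoh.IsPerfect L := DCohLib.isPerfect_lpull c T (ProjPerfLib.isPerfect_F n S _ _
      (DCohLib.isPerfect_inD (BCLib.isFinLocFree_structureModule P)))
    obtain ⟨h1, h2⟩ := hom_findim_lpull b (fun Q hQ => isPerfect_rpush_of_regular b hreg Q hQ) K hK h L hL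
    have key : ∀ m : ℤ, Nonempty ((DCoh.inD P (Coh.structureModule P) ⟶
        ((TwistOver.F n S (-(j : ℤ))).obj M)⟦m⟧) ≃ₗ[k] (L ⟶ V⟦m⟧)) := fun m => by
      obtain ⟨eq⟩ := ProjPerfLib.nonempty_hom_twist n S (A := k) (j : ℤ) (DCoh.inD P (Coh.structureModule P)) M m
      exact ⟨eq.trans ((Linear.homCongr k (Iso.refl T) (((DCoh.Rpush c).commShiftIso m).app V).symm).trans
        (FinHom.homLinearEquiv' (A := k) (lpullRpushAdj c) T (V⟦m⟧)).symm)⟩
    refine ⟨fun m => ?_, h2.subset fun m hm => ?_⟩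
    · obtain ⟨eq⟩ := key m
      haveI := h1 m
      exact Module.Finite.equiv eq.symm
    · obtain ⟨eq⟩ := key m
      exact @Equiv.nontrivial _ _ eq.symm.toEquiv hm
  obtain ⟨hMc, a, a', ha, ha'⟩ := ProjPerfLib.cohbP_of_isPerfect n k M hMp
  refine ⟨U, hx, ?_⟩
  -- restrict to the chart
  let O := c ⁻¹ᵁ W
  let V₀ := (DCoh.restrictD O.ι).obj V
  haveI := hasLpull O.ι
  obtain ⟨p4⟩ := nonempty_restrictD_lpull O.ι V
  have hV₀ : DCoh.IsQCohD V₀ := TildeD.isQCohD_of_iso p4.symm (TildeD.isQCohD_lpull O.ι V hV)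
  haveI := BC.hasRpush (c ∣_ W)
  haveI : IsAffineHom (c ∣_ W) := inferInstance
  obtain ⟨er⟩ := nonempty_restrictD_rpush c W
  have hHD : ∀ i, Nonempty ((Scheme.Modules.pushforward (c ∣_ W)).obj (DCoh.HD V₀ i) ≅
      (Scheme.Modules.restrictFunctor W.ι).obj (DCoh.HD M i)) := fun i => by
    obtain ⟨e⟩ := nonempty_HD_rpush_affine (c ∣_ W) V₀ hV₀ i
    exact ⟨e.symm ≪≫ (DerivedCategory.homologyFunctor (W : Scheme.{u}).Modules i).mapIso (er.app V).symm ≪≫
      restrictHDIso W.ι M i⟩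
  have hcoh : ∀ i, Coh.IsCoh (DCoh.HD V₀ i) := fun i => by
    obtain ⟨e⟩ := hHD i
    exact ⟨hV₀ i, RelPCLib.isFT_of_push (c ∣_ W) (isCoh_iso e.symm (isCoh_restrict' (hMc i) W)).2⟩
  have hz : ∀ i, IsZero (DCoh.HD M i) → IsZero (DCoh.HD V₀ i) := fun i hi => by
    obtain ⟨e⟩ := hHD i
    haveI := isIso_counit_closedImmersion (c ∣_ W) (DCoh.HD V₀ i)
    exact ((Scheme.Modules.pullback (c ∣_ W)).map_isZero
      (((Scheme.Modules.restrictFunctor W.ι).map_isZero hi).of_iso e)).of_iso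
      (asIso ((Scheme.Modules.pullbackPushforwardAdjunction (c ∣_ W)).counit.app _)).symm
  haveI := hasLpull U.ι
  haveI := hasLpull g
  haveI := hasLpull (g ≫ O.ι)
  haveI := hasLpull ((g ≫ O.ι) ≫ b)
  haveI : IsOpenImmersion g := inferInstance
  have hfac : (g ≫ O.ι) ≫ b = U.ι := by rw [Category.assoc]; exact hgb
  obtain ⟨p1⟩ := nonempty_restrictD_lpull U.ι K
  obtain ⟨p2⟩ := nonempty_lpullCompIso (g ≫ O.ι) b
  obtain ⟨p3⟩ := nonempty_lpullCompIso g O.ι
  obtain ⟨p5⟩ := nonempty_restrictD_lpull g V₀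
  obtain ⟨p6⟩ := nonempty_lpull_congr hfac.symm K
  let eU : (DCoh.restrictD U.ι).obj K ≅ (DCoh.restrictD g).obj V₀ :=
    p1 ≪≫ p6 ≪≫ p2.symm.app K ≪≫ p3.symm.app V ≪≫ (DCoh.Lpull g).mapIso p4.symm ≪≫ p5.symm
  let eH := fun i => (DerivedCategory.homologyFunctor (U : Scheme.{u}).Modules i).mapIso eU ≪≫ restrictHDIso g V₀ i
  haveI : IsLocallyNoetherian (U : Scheme.{u}) := inferInstance
  refine ⟨fun i => isCoh_iso (eH i).symm ?_, a, a', (DerivedCategory.isGE_iff _ _).2 fun i hi => ?_,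
    (DerivedCategory.isLE_iff _ _).2 fun i hi => ?_⟩
  · exact isCoh_iso ((Scheme.Modules.restrictFunctorIsoPullback g).app _).symm (PullbackMod.isCoh_pullback g _ (hcoh i))
  · exact ((Scheme.Modules.restrictFunctor g).map_isZero (hz i ((DerivedCategory.isGE_iff _ _).1 ha i hi))).of_iso (eH i)
  · exact ((Scheme.Modules.restrictFunctor g).map_isZero (hz i ((DerivedCategory.isLE_iff _ _).1 ha' i hi))).of_iso (eH i)

/-- Finiteness of morphisms from perfect objects implies bounded coherence. -/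
theorem cohbP_of_hom_findim (hreg : ∀ x : X, IsRegularLocalRing (X.presheaf.stalk x)) (K : DCoh.D X)
    (hK : DCoh.IsQCohD K)
    (h : ∀ E : DCoh.D X, DCoh.IsPerfect E →
      (∀ i : ℤ, Module.Finite k (E ⟶ K⟦i⟧)) ∧ Set.Finite {i : ℤ | Nontrivial (E ⟶ K⟦i⟧)}) :
    SGA6.cohbP X K := by
  classical
  haveI : IsLocallyNoetherian X := LocallyOfFiniteType.isLocallyNoetherian (X ↘ Spec (CommRingCat.of k))
  haveI : CompactSpace X := QuasiCompact.compactSpace_of_compactSpace (X ↘ Spec (CommRingCat.of k))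
  choose U hxU hUc hUb using exists_cohb_nhd hreg K hK h
  refine ⟨fun i => isCoh_of_local fun x => ⟨U x, hxU x, isCoh_iso (restrictHDIso (U x).ι K i) (hUc x i)⟩, ?_⟩
  choose a a' ha ha' using hUb
  obtain ⟨t, ht⟩ := (isCompact_univ (X := X)).elim_finite_subcover (fun x => ((U x : X.Opens) : Set X))
    (fun x => (U x).2) (fun x _ => Set.mem_iUnion.2 ⟨x, hxU x⟩)
  obtain ⟨A, hA⟩ := (t.image a).bddBelow
  obtain ⟨B, hB⟩ := (t.image a').bddAbove
  have hz : ∀ i : ℤ, (∀ x ∈ t, i < a x ∨ a' x < i) → IsZero (DCoh.HD K i) := by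
    intro i hi
    refine isZero_of_local fun y => ?_
    obtain ⟨x, hx, hy⟩ := Set.mem_iUnion₂.1 (ht (Set.mem_univ y))
    refine ⟨U x, (U x).ι, inferInstance, ⟨y, hy⟩, rfl, IsZero.of_iso ?_ (restrictHDIso (U x).ι K i).symm⟩
    rcases hi x hx with h' | h'
    · exact (DerivedCategory.isGE_iff _ _).1 (ha x) i h'
    · exact (DerivedCategory.isLE_iff _ _).1 (ha' x) i h'
  exact ⟨A, B,
    (DerivedCategory.isGE_iff K A).2 fun i hi =>
      hz i fun x hx => Or.inl (lt_of_lt_of_le hi (hA (Finset.mem_image_of_mem a hx))),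
    (DerivedCategory.isLE_iff K B).2 fun i hi =>
      hz i fun x hx => Or.inr (lt_of_le_of_lt (hB (Finset.mem_image_of_mem a' hx)) hi)⟩

end Groth.Agent.ProperTest
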