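import Groth.Agent.DCohMore.FinHom
import Groth.Agent.DCohLib.DualEval
import Groth.Agent.FMKLib.NatPF
import Groth.Agent.DCohMore.PerfVanish

/-!
# Morphisms into pullbacks, computed on the base
-/

set_option autoImplicit false
set_option linter.style.haveILetI false
set_option maxHeartbeats 1000000
set_option backward.isDefEq.respectTransparency false

universe u

open CategoryTheory CategoryTheory.Limits AlgebraicGeometry
open CategoryTheory.Pretriangulated

attribute [local instance] HasDerivedCategory.standard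

noncomputable section

namespace Groth.Agent.ProperTest

open Groth.Agent.DCohLib Groth.Agent.DCohMore Groth.Agent.DCohMore.FinHom

variable {k : Type u} [Field k] {X : Scheme.{u}} [X.Over (Spec (CommRingCat.of k))]

/-- Morphisms out of a K-flat complex are morphisms from the structure sheaf into derived internal Hom. -/
theorem nonempty_hom_internal (N : CochainComplex X.Modules ℤ) (hN : DCoh.IsKFlat N) [DCoh.HasLTensorCx N]
    [DCoh.HasRSheafHom N] (V : DCoh.D X) :
    Nonempty ((DCoh.inD X (Coh.structureModule X) ⟶ (DCoh.RSheafHom N).obj V) ≃ₗ[k]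
      (DerivedCategory.Q.obj N ⟶ V)) := by
  let adj := DCoh.RSheafHomAdj N
  haveI : (DCoh.LTensorCx N).IsLeftAdjoint := adj.isLeftAdjoint
  haveI : PreservesColimitsOfSize.{0, 0} (DCoh.LTensorCx N) := adj.leftAdjoint_preservesColimits
  haveI : PreservesBinaryBiproducts (DCoh.LTensorCx N) := preservesBinaryBiproducts_of_preservesBinaryCoproducts _
  haveI : (DCoh.LTensorCx N).Additive := Functor.additive_of_preservesBinaryBiproducts _
  haveI := lTensorCx_linear (A := k) N hN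
  obtain ⟨t⟩ := nonempty_symCxSch (unitCx X) N
  haveI := isIso_lTensorCounit_app_of_isKFlat N hN (unitCx X)
  let eK : (DCoh.LTensorCx N).obj (DerivedCategory.Q.obj (unitCx X)) ≅ DerivedCategory.Q.obj N :=
    asIso ((lTensorCounit N).app (unitCx X)) ≪≫ DerivedCategory.Q.mapIso (t ≪≫ tensorUnitCxIso.app N)
  exact ⟨(Linear.homCongr k unitDIso (Iso.refl _)).trans
    ((homLinearEquiv (A := k) adj _ V).trans (Linear.homCongr k eK (Iso.refl V)))⟩

/-- Morphisms from the structure sheaf into an object are those into its direct image. -/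
theorem nonempty_hom_push {Y : Scheme.{u}} [Y.Over (Spec (CommRingCat.of k))] (b : Y ⟶ X)
    [b.IsOver (Spec (CommRingCat.of k))] [DCoh.HasRpush b] (M : DCoh.D Y) :
    Nonempty ((DCoh.inD Y (Coh.structureModule Y) ⟶ M) ≃ₗ[k]
      (DCoh.inD X (Coh.structureModule X) ⟶ (DCoh.Rpush b).obj M)) := by
  haveI := hasLpull b
  haveI : (DCoh.Rpush b).IsRightAdjoint := (lpullRpushAdj b).isRightAdjoint
  haveI : (DCoh.Rpush b).Additive := CategoryTheory.Functor.additive_of_preserves_binary_products _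
  haveI := rpush_linear (A := k) b
  haveI : IsIso ((BC.lamN b 0).app (Coh.structureModule X)) :=
    BC.isIso_lamN_app_flat b 0 _ ((isFlat_iff _).2 (SiteBase.ExtZeroPre.isFlat_unit X.sheaf))
  let eU : (DCoh.Lpull b).obj (DCoh.inD X (Coh.structureModule X)) ≅ DCoh.inD Y (Coh.structureModule Y) :=
    asIso ((BC.lamN b 0).app (Coh.structureModule X)) ≪≫ (BC.TT Y 0).mapIso (pullStructureIso b)
  exact ⟨(Linear.homCongr k eU.symm (Iso.refl M)).trans (homLinearEquiv' (A := k) (lpullRpushAdj b) _ _)⟩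

/-- A K-flat model of the dual of a perfect K-flat complex. -/
theorem exists_dual (N : CochainComplex X.Modules ℤ) (hN : DCoh.IsKFlat N)
    (hp : DCoh.IsPerfect (DerivedCategory.Q.obj N)) [DCoh.HasLTensorCx N] [DCoh.HasRSheafHom N] :
    ∃ (D : CochainComplex X.Modules ℤ), DCoh.IsKFlat D ∧ DCoh.IsPerfect (DerivedCategory.Q.obj D) ∧
      Nonempty (DerivedCategory.Q.obj D ≅ (DCoh.RSheafHom N).obj
        ((DerivedCategory.singleFunctor X.Modules 0).obj (Coh.structureModule X))) := by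
  let F := (DCoh.RSheafHom N).obj ((DerivedCategory.singleFunctor X.Modules 0).obj (Coh.structureModule X))
  exact ⟨(resX X).obj (DerivedCategory.Q.objPreimage F), isKFlat_resX _,
    isPerfect_iso (resXIso F).symm (isPerfect_rSheafHom_unit N hN hp), ⟨resXIso F⟩⟩

/-- Finiteness of morphisms from perfect objects passes to pullbacks along proper morphisms whose direct images of
perfect objects are perfect. -/
theorem hom_findim_lpull {Y : Scheme.{u}} [Y.Over (Spec (CommRingCat.of k))] (b : Y ⟶ X)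
    [b.IsOver (Spec (CommRingCat.of k))] [QuasiCompact b] [QuasiSeparated b] [DCoh.HasRpush b] [DCoh.HasLpull b]
    (hpush : ∀ P, DCoh.IsPerfect P → DCoh.IsPerfect ((DCoh.Rpush b).obj P))
    (K : DCoh.D X) (hK : DCoh.IsQCohD K)
    (h : ∀ E : DCoh.D X, DCoh.IsPerfect E →
      (∀ i : ℤ, Module.Finite k (E ⟶ K⟦i⟧)) ∧ Set.Finite {i : ℤ | Nontrivial (E ⟶ K⟦i⟧)})
    (L : DCoh.D Y) (hL : DCoh.IsPerfect L) :
    (∀ i : ℤ, Module.Finite k (L ⟶ ((DCoh.Lpull b).obj K)⟦i⟧)) ∧
      Set.Finite {i : ℤ | Nontrivial (L ⟶ ((DCoh.Lpull b).obj K)⟦i⟧)} := by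
  let NL := (resX Y).obj (DerivedCategory.Q.objPreimage L)
  haveI := DCohLib.hasLTensorCx NL
  haveI := hasRSheafHom_of_isKFlat NL (isKFlat_resX _)
  have hNL : DCoh.IsPerfect (DerivedCategory.Q.obj NL) := isPerfect_iso (resXIso L).symm hL
  obtain ⟨D, hD, hDp, ⟨eD⟩⟩ := exists_dual NL (isKFlat_resX _) hNL
  haveI := DCohLib.hasLTensorCx D
  let Kd := (resX X).obj (DerivedCategory.Q.objPreimage ((DCoh.Rpush b).obj (DerivedCategory.Q.obj D)))
  have hKd : DCoh.IsKFlat Kd := isKFlat_resX _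
  let ed : DerivedCategory.Q.obj Kd ≅ (DCoh.Rpush b).obj (DerivedCategory.Q.obj D) := resXIso _
  have hKdp : DCoh.IsPerfect (DerivedCategory.Q.obj Kd) := isPerfect_iso ed.symm (hpush _ hDp)
  haveI := DCohLib.hasLTensorCx Kd
  haveI := hasRSheafHom_of_isKFlat Kd hKd
  haveI := DCohLib.hasLTensorCx (unitCx X)
  haveI := hasRSheafHom_of_isKFlat (unitCx X) (isKFlat_unitCx (X := X))
  let F := (DCoh.RSheafHom Kd).obj (DerivedCategory.Q.obj (unitCx X))
  let N' := (resX X).obj (DerivedCategory.Q.objPreimage F)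
  haveI := DCohLib.hasLTensorCx N'
  haveI := hasRSheafHom_of_isKFlat N' (isKFlat_resX _)
  have hN' : DCoh.IsPerfect (DerivedCategory.Q.obj N') := isPerfect_iso
    ((DCoh.RSheafHom Kd).mapIso unitDIso ≪≫ (resXIso F).symm) (isPerfect_rSheafHom_unit Kd hKd hKdp)
  obtain ⟨pf⟩ := FMKLib.nonempty_proj_right b D (DCohMore.isQCohD_of_isPerfect hDp) Kd ed
  haveI : SiteCmp.HasRpushD (ModSite.RMor.ofScheme b) := ‹DCoh.HasRpush b›
  obtain ⟨h₁, _⟩ := SiteCmpLib.exists_triangulated_rpushD (ModSite.RMor.ofScheme b)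
  letI : (DCoh.Rpush b).CommShift ℤ := h₁
  letI : (DCoh.Lpull b).CommShift ℤ := (lpullRpushAdj b).leftAdjointCommShift ℤ
  have key : ∀ i : ℤ, Nonempty ((L ⟶ ((DCoh.Lpull b).obj K)⟦i⟧) ≃ₗ[k] (DerivedCategory.Q.obj N' ⟶ K⟦i⟧)) := fun i => by
    let V := ((DCoh.Lpull b).obj K)⟦i⟧
    obtain ⟨e₁⟩ := nonempty_hom_internal (k := k) NL (isKFlat_resX _) V
    obtain ⟨e₂⟩ := nonempty_lTensor_dual NL (isKFlat_resX _) hNL D hD eD V
    obtain ⟨e₃⟩ := nonempty_hom_push (k := k) b ((DCoh.LTensorCx D).obj V)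
    obtain ⟨e₄⟩ := nonempty_rSheafHom_evaluation Kd (unitCx X) hKd hKdp N' (resXIso F) (K⟦i⟧)
    obtain ⟨e₅⟩ := nonempty_hom_internal (k := k) N' (isKFlat_resX _) (K⟦i⟧)
    let u : (DCoh.RSheafHom (unitCx X)).obj (K⟦i⟧) ≅ K⟦i⟧ :=
      (Adjunction.rightAdjointUniq ((DCoh.RSheafHomAdj (unitCx X)).ofNatIsoLeft lTensorUnitIso) Adjunction.id).app _
    let p : (DCoh.Rpush b).obj ((DCoh.LTensorCx D).obj V) ≅ (DCoh.RSheafHom N').obj (K⟦i⟧) :=
      (DCoh.Rpush b).mapIso ((DCoh.LTensorCx D).mapIso (((DCoh.Lpull b).commShiftIso i).app K).symm) ≪≫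
        (pf.app ⟨K⟦i⟧, DCohMore.isQCohD_shift' hK i⟩).symm ≪≫ (DCoh.LTensorCx Kd).mapIso u.symm ≪≫ e₄
    exact ⟨(Linear.homCongr k (resXIso L).symm (Iso.refl V)).trans (e₁.symm.trans
      ((Linear.homCongr k (Iso.refl _) e₂.symm).trans (e₃.trans
        ((Linear.homCongr k (Iso.refl _) p).trans e₅))))⟩
  obtain ⟨h1, h2⟩ := h _ hN'
  refine ⟨fun i => ?_, h2.subset fun i hi => ?_⟩
  · obtain ⟨e⟩ := key i
    haveI := h1 i
    exact Module.Finite.equiv e.symm
  · obtain ⟨e⟩ := key i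
    exact @Equiv.nontrivial _ _ e.symm.toEquiv hi

end Groth.Agent.ProperTest
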